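import Groth.Agent.SmLocalST.SmoothField
import Groth.Agent.RegLoc.Normal
import Mathlib

/-! Smoothing over `k[[t]]` from a geometric smoothing. -/

set_option autoImplicit false
set_option backward.isDefEq.respectTransparency false
set_option linter.style.haveILetI false

universe u

open CategoryTheory CategoryTheory.Limits AlgebraicGeometry PowerSeries

noncomputable section

namespace Groth.Agent.SmoothingPS

section Expand

variable {O k : Type u} [CommRing O] [Field k] (ι : k →+* O) (g : O →+* k) (π : O)

/-- polynomials in the uniformiser -/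
def psi : Polynomial k →+* O := Polynomial.eval₂RingHom ι π

variable {ι g π} (hgι : ∀ c, g (ι c) = c) (hker : ∀ a, g a = 0 ↔ π ∣ a)

include hgι hker in
theorem exists_rem (a : O) : ∃ b, a = ι (g a) + π * b := by
  obtain ⟨b, hb⟩ := (hker (a - ι (g a))).1 (by rw [map_sub, hgι, sub_self])
  exact ⟨b, by rw [← hb, add_sub_cancel]⟩

/-- the remainder -/
def rem (a : O) : O := (exists_rem hgι hker a).choose

include hgι hker in
theorem rem_spec (a : O) : a = ι (g a) + π * rem hgι hker a := (exists_rem hgι hker a).choose_spec

/-- the expansion -/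
def expand (a : O) : PowerSeries k := PowerSeries.mk fun n => g ((rem hgι hker)^[n] a)

include hgι hker in
theorem expand_congr : ∀ (n : ℕ) (a : O), π ^ n ∣ a - psi ι π (trunc n (expand hgι hker a)) := by
  intro n
  suffices H : ∀ a : O, a - psi ι π (trunc n (expand hgι hker a)) = π ^ n * (rem hgι hker)^[n] a from
    fun a => ⟨_, H a⟩
  induction n with
  | zero => intro a; simp
  | succ n ih =>
    intro a
    rw [trunc_succ, map_add, ← sub_sub, ih, psi, Polynomial.coe_eval₂RingHom, Polynomial.eval₂_monomial,
      Function.iterate_succ_apply', expand, PowerSeries.coeff_mk]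
    linear_combination (π ^ n) * rem_spec hgι hker ((rem hgι hker)^[n] a)

include hgι hker in
theorem coeff_eq_zero_of_dvd [IsDomain O] (hπ : π ≠ 0) : ∀ (n : ℕ) (p : Polynomial k),
    π ^ n ∣ psi ι π p → ∀ i < n, p.coeff i = 0 := by
  intro n
  induction n with
  | zero => exact fun p _ i hi => absurd hi (Nat.not_lt_zero i)
  | succ n ih =>
    intro p hp i hi
    have hd : psi ι π p = ι (p.coeff 0) + π * psi ι π p.divX := by
      have h := congrArg (psi ι π) (Polynomial.X_mul_divX_add p).symm
      rw [map_add, map_mul] at h
      simp only [psi, Polynomial.coe_eval₂RingHom, Polynomial.eval₂_X, Polynomial.eval₂_C] at h ⊢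
      rw [add_comm]
      exact h
    have h0 : p.coeff 0 = 0 := by
      rw [← hgι (p.coeff 0), hker]
      have h1 : π ∣ psi ι π p := (dvd_pow_self π (Nat.succ_ne_zero n)).trans hp
      rwa [hd, dvd_add_left (dvd_mul_right _ _)] at h1
    cases i with
    | zero => exact h0
    | succ i =>
      rw [← Polynomial.coeff_divX]
      refine ih _ ?_ i (by omega)
      rw [hd, h0, map_zero, zero_add, pow_succ', mul_dvd_mul_iff_left hπ] at hp
      exact hp

include hgι hker in
theorem expand_unique [IsDomain O] (hπ : π ≠ 0) (a : O) (s : PowerSeries k)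
    (h : ∀ n, π ^ n ∣ a - psi ι π (trunc n s)) : expand hgι hker a = s := by
  ext i
  have h1 := coeff_eq_zero_of_dvd hgι hker hπ (i + 1) (trunc (i + 1) (expand hgι hker a) - trunc (i + 1) s) (by
    rw [map_sub, ← sub_sub_sub_cancel_left _ _ a]
    exact dvd_sub (h _) (expand_congr hgι hker _ a)) i (Nat.lt_succ_self i)
  rw [Polynomial.coeff_sub, coeff_trunc, coeff_trunc, if_pos (Nat.lt_succ_self i), if_pos (Nat.lt_succ_self i),
    sub_eq_zero] at h1
  exact h1

include hgι hker in
/-- The expansion is a ring homomorphism. -/
theorem exists_expandHom [IsDomain O] (hπ : π ≠ 0) (hsep : ∀ a, (∀ n, π ^ n ∣ a) → a = 0) :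
    ∃ φ : O →+* PowerSeries k, Function.Injective φ ∧ ∀ a, PowerSeries.constantCoeff (φ a) = g a := by
  have U := expand_unique hgι hker hπ
  have E := expand_congr hgι hker
  let φ : O →+* PowerSeries k :=
    { toFun := expand hgι hker
      map_one' := U 1 1 fun n => by
        cases n with
        | zero => simp
        | succ n => rw [trunc_one, map_one, sub_self]; exact dvd_zero _
      map_zero' := U 0 0 fun n => by simp
      map_add' := fun a b => U _ _ fun n => by
        rw [map_add, map_add, add_sub_add_comm]
        exact dvd_add (E n a) (E n b)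
      map_mul' := fun a b => U _ _ fun n => by
        set s := expand hgι hker a
        set t := expand hgι hker b
        have h1 : π ^ n ∣ psi ι π (trunc n s) * psi ι π (trunc n t) - psi ι π (trunc n (s * t)) := by
          rw [← map_mul, ← map_sub]
          have : Polynomial.X ^ n ∣ trunc n s * trunc n t - trunc n (s * t) := by
            rw [Polynomial.X_pow_dvd_iff]
            intro i hi
            rw [Polynomial.coeff_sub, sub_eq_zero, coeff_trunc, if_pos hi, coeff_mul_eq_coeff_trunc_mul_trunc _ _ hi,
              Polynomial.coeff_mul, PowerSeries.coeff_mul]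
            refine Finset.sum_congr rfl fun x _ => ?_
            rw [Polynomial.coeff_coe, Polynomial.coeff_coe]
          have h2 := map_dvd (psi ι π) this
          rwa [map_pow, show psi ι π Polynomial.X = π by simp [psi]] at h2
        have h3 : π ^ n ∣ a * b - psi ι π (trunc n s) * psi ι π (trunc n t) := by
          rw [show a * b - psi ι π (trunc n s) * psi ι π (trunc n t) = a * (b - psi ι π (trunc n t)) +
            (a - psi ι π (trunc n s)) * psi ι π (trunc n t) by ring]
          exact dvd_add (dvd_mul_of_dvd_right (E n b) _) (dvd_mul_of_dvd_left (E n a) _)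
        have := dvd_add h3 h1
        rwa [sub_add_sub_cancel] at this }
  refine ⟨φ, (injective_iff_map_eq_zero φ).2 fun a ha => hsep a fun n => ?_, fun a => ?_⟩
  · have := E n a
    rwa [show expand hgι hker a = 0 from ha, map_zero, map_zero, sub_zero] at this
  · rw [← PowerSeries.coeff_zero_eq_constantCoeff_apply]
    show PowerSeries.coeff 0 (expand hgι hker a) = g a
    rw [expand, PowerSeries.coeff_mk, Function.iterate_zero, id]

end Expand

theorem main (k : Type u) [Field k]
    (X : Scheme.{u}) (pX : X ⟶ Spec (CommRingCat.of k))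
    (C : Scheme.{u}) (qC : C ⟶ Spec (CommRingCat.of k)) (c : Spec (CommRingCat.of k) ⟶ C)
    (hc : c ≫ qC = 𝟙 (Spec (CommRingCat.of k))) [IsIntegral C] [Smooth qC]
    (hC : topologicalKrullDim C = 1)
    (Y : Scheme.{u}) (π : Y ⟶ C) [Flat π] [IsProper π] (j : X ⟶ Y) (hsq : IsPullback j pX π c)
    (hgen : Smooth (π.fiberToSpecResidueField (genericPoint C))) :
    ∃ (P : Scheme.{u}) (p : P ⟶ Spec (CommRingCat.of (PowerSeries k))) (_ : Flat p) (_ : IsProper p)
      (i : X ⟶ P),
      IsPullback i pX p (Spec.map (CommRingCat.ofHom (PowerSeries.constantCoeff (R := k)))) ∧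
      Smooth (pullback.snd p
        (Spec.map (CommRingCat.ofHom (algebraMap (PowerSeries k) (FractionRing (PowerSeries k)))))) := by
  let x : C := c (IsLocalRing.closedPoint k)
  let O := C.presheaf.stalk x
  haveI : IsLocallyNoetherian C := LocallyOfFiniteType.isLocallyNoetherian qC
  haveI hreg : IsRegularLocalRing O := SmLocalST.isRegularLocalRing_stalk_of_smooth_field qC x
  haveI : IsIntegrallyClosed O := RegLoc.isIntegrallyClosed
  -- `x` is closed and not generic
  let g : O →+* k := (Scheme.stalkClosedPointTo c).hom
  let ι : k →+* O := (Spec.preimage (C.fromSpecStalk x ≫ qC)).hom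
  have hgι : ∀ a, g (ι a) = a := by
    have h1 : Spec.map (Scheme.stalkClosedPointTo c) ≫ Spec.map (Spec.preimage (C.fromSpecStalk x ≫ qC)) =
        𝟙 (Spec (CommRingCat.of k)) := by
      rw [Spec.map_preimage, ← Category.assoc, Scheme.Spec_stalkClosedPointTo_fromSpecStalk, hc]
    rw [← Spec.map_comp, ← Spec.map_id] at h1
    intro a
    exact congrArg (fun φ : CommRingCat.of k ⟶ CommRingCat.of k => φ.hom a) (Spec.map_injective h1)
  have hgsurj : Function.Surjective g := fun a => ⟨ι a, hgι a⟩
  have hgker : RingHom.ker g = IsLocalRing.maximalIdeal O :=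
    IsLocalRing.eq_maximalIdeal (RingHom.ker_isMaximal_of_surjective g hgsurj)
  haveI : JacobsonSpace C := LocallyOfFiniteType.jacobsonSpace qC
  have hxc : IsClosed ({x} : Set C) := by
    haveI : IsClosedImmersion (c ≫ qC) := by rw [hc]; infer_instance
    exact isClosed_singleton_of_isLocallyClosed_singleton (by
      haveI : IsImmersion c := IsImmersion.of_comp c qC
      have h2 : Set.range c = ({x} : Set C) := by
        ext y
        refine ⟨fun ⟨z, hz⟩ => ?_, fun hy => ⟨_, (Set.mem_singleton_iff.1 hy).symm⟩⟩
        rw [Subsingleton.elim z (IsLocalRing.closedPoint k)] at hz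
        exact hz.symm
      rw [← h2]
      exact c.isLocallyClosed_range)
  have hxne : x ≠ genericPoint C := fun e => by
    have hall : ∀ y : C, y = x := fun y => by
      have h1 : genericPoint C ⤳ y := (genericPoint_spec C).specializes trivial
      rw [← e, specializes_iff_mem_closure, hxc.closure_eq] at h1
      exact h1
    haveI : Subsingleton C := ⟨fun a b => (hall a).trans (hall b).symm⟩
    have h2 : topologicalKrullDim C ≤ 0 := topologicalKrullDim_zero_of_discreteTopology C
    rw [hC] at h2
    exact absurd h2 (by norm_num)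
  -- generizations of `x`
  have hgenz : ∀ y : C, y ⤳ x → y = x ∨ y = genericPoint C := by
    intro y hy
    by_contra! hne
    have hdim : ((2 : ℕ) : WithBot ℕ∞) ≤ topologicalKrullDim C := by
      let Z : C → TopologicalSpace.IrreducibleCloseds C := fun z => ⟨closure {z}, isIrreducible_singleton.closure, isClosed_closure⟩
      have hlt : ∀ {a b : C}, b ⤳ a → a ≠ b → Z a < Z b := fun {a b} h hab => by
        refine lt_of_le_of_ne ?_ fun heq => hab ?_
        · exact closure_minimal (Set.singleton_subset_iff.2 (specializes_iff_mem_closure.1 h)) isClosed_closure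
        · have h' : closure ({a} : Set C) = closure {b} := congrArg TopologicalSpace.IrreducibleCloseds.carrier heq
          exact ((specializes_iff_mem_closure.2 (h' ▸ subset_closure rfl : b ∈ closure ({a} : Set C))).antisymm h).eq
      let l : LTSeries (TopologicalSpace.IrreducibleCloseds C) :=
        ((RelSeries.singleton _ (Z x)).snoc (Z y) (hlt hy hne.1.symm)).snoc (Z (genericPoint C))
          (by rw [RelSeries.last_snoc]; exact hlt ((genericPoint_spec C).specializes trivial) hne.2)
      exact Order.LTSeries.length_le_krullDim l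
    rw [hC] at hdim
    exact absurd hdim (by norm_num)
  have hprimes : ∀ P : Ideal O, P.IsPrime → P = ⊥ ∨ P = IsLocalRing.maximalIdeal O := by
    intro P hP
    have hemb := (C.fromSpecStalk x).isEmbedding.injective
    have hmem : ∀ Q : PrimeSpectrum O, C.fromSpecStalk x Q ⤳ x := fun Q => by
      have := Set.mem_range_self (f := C.fromSpecStalk x) Q
      rwa [Scheme.range_fromSpecStalk] at this
    rcases hgenz _ (hmem ⟨P, hP⟩) with h | h
    · exact Or.inr (congrArg PrimeSpectrum.asIdeal (hemb (h.trans Scheme.fromSpecStalk_closedPoint.symm)))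
    · left
      rcases hgenz _ (hmem ⟨⊥, Ideal.isPrime_bot⟩) with h' | h'
      · have hm : (⊥ : Ideal O) = IsLocalRing.maximalIdeal O :=
          congrArg PrimeSpectrum.asIdeal (hemb (h'.trans Scheme.fromSpecStalk_closedPoint.symm))
        exact le_antisymm (hm ▸ IsLocalRing.le_maximalIdeal hP.ne_top) bot_le
      · exact congrArg PrimeSpectrum.asIdeal (hemb (h.trans h'.symm))
  have hnf : ¬ IsField O := fun hF => by
    have hgr : genericPoint C ∈ Set.range (C.fromSpecStalk x) := by
      rw [Scheme.range_fromSpecStalk]; exact (genericPoint_spec C).specializes trivial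
    obtain ⟨Q, hQ⟩ := hgr
    have : Q = IsLocalRing.closedPoint O := by
      refine PrimeSpectrum.ext (le_antisymm (IsLocalRing.le_maximalIdeal Q.2.ne_top) ?_)
      show IsLocalRing.maximalIdeal O ≤ _
      rw [IsLocalRing.isField_iff_maximalIdeal_eq.1 hF]; exact bot_le
    rw [this, Scheme.fromSpecStalk_closedPoint] at hQ
    exact hxne hQ
  haveI : IsDiscreteValuationRing O := by
    have key : (IsIntegrallyClosed O ∧ ∃! P : Ideal O, P ≠ ⊥ ∧ P.IsPrime) ↔ IsDiscreteValuationRing O :=
      (IsDiscreteValuationRing.TFAE O hnf).out 3 0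
    exact key.1 ⟨inferInstance, IsLocalRing.maximalIdeal _,
      ⟨fun h => hnf (IsLocalRing.isField_iff_maximalIdeal_eq.2 h), inferInstance⟩,
      fun P hP => (hprimes P hP.2).resolve_left hP.1⟩
  obtain ⟨ϖ, hϖ⟩ := IsDiscreteValuationRing.exists_irreducible O
  have hker : ∀ a, g a = 0 ↔ ϖ ∣ a := fun a => by
    rw [← RingHom.mem_ker, hgker, hϖ.maximalIdeal_eq, Ideal.mem_span_singleton]
  obtain ⟨φ, hφi, hφ⟩ := exists_expandHom hgι hker hϖ.ne_zero fun a ha => by
    have : a ∈ (⊥ : Ideal O) := by
      rw [← Ideal.iInf_pow_eq_bot_of_isLocalRing (IsLocalRing.maximalIdeal O) (IsLocalRing.maximalIdeal.isMaximal O).ne_top]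
      exact Ideal.mem_iInf.2 fun n => by rw [hϖ.maximalIdeal_eq, Ideal.span_singleton_pow, Ideal.mem_span_singleton]; exact ha n
    exact this
  let β : Spec (CommRingCat.of (PowerSeries k)) ⟶ C := Spec.map (CommRingCat.ofHom φ) ≫ C.fromSpecStalk x
  have hβc : Spec.map (CommRingCat.ofHom (PowerSeries.constantCoeff (R := k))) ≫ β = c := by
    rw [← Category.assoc, ← Spec.map_comp]
    conv_rhs => rw [← Scheme.Spec_stalkClosedPointTo_fromSpecStalk c]
    congr 2
    ext a
    exact hφ a
  refine ⟨pullback π β, pullback.snd π β, inferInstance, inferInstance,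
    pullback.lift j (pX ≫ Spec.map (CommRingCat.ofHom (PowerSeries.constantCoeff (R := k))))
      (by rw [Category.assoc, hβc, hsq.w]), ?_, ?_⟩
  · refine IsPullback.of_right ?_ (pullback.lift_snd _ _ _) (IsPullback.of_hasPullback π β)
    rw [pullback.lift_fst, hβc]
    exact hsq
  · let F := FractionRing (PowerSeries k)
    let s : Spec (CommRingCat.of F) ⟶ Spec (CommRingCat.of (PowerSeries k)) :=
      Spec.map (CommRingCat.ofHom (algebraMap (PowerSeries k) F))
    have hη : (s ≫ β) (IsLocalRing.closedPoint F) = genericPoint C := by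
      let ψ : O →+* F := (algebraMap (PowerSeries k) F).comp φ
      have hψ : Function.Injective ψ := (IsFractionRing.injective (PowerSeries k) F).comp hφi
      have e : s ≫ β = Spec.map (CommRingCat.ofHom ψ) ≫ C.fromSpecStalk x := by
        rw [← Category.assoc, ← Spec.map_comp]; rfl
      have hQ : (Spec.map (CommRingCat.ofHom ψ)) (IsLocalRing.closedPoint F) = (⟨⊥, Ideal.isPrime_bot⟩ : PrimeSpectrum O) := by
        refine PrimeSpectrum.ext ?_
        show (IsLocalRing.maximalIdeal F).comap ψ = ⊥
        rw [IsLocalRing.isField_iff_maximalIdeal_eq.1 (Field.toIsField F), ← RingHom.ker_eq_comap_bot]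
        first | done | exact (RingHom.injective_iff_ker_eq_bot ψ).1 hψ
      rw [e, Scheme.Hom.comp_apply, hQ]
      have hm : C.fromSpecStalk x (⟨⊥, Ideal.isPrime_bot⟩ : PrimeSpectrum O) ⤳ x := by
        have := Set.mem_range_self (f := C.fromSpecStalk x) (⟨⊥, Ideal.isPrime_bot⟩ : PrimeSpectrum O)
        rwa [Scheme.range_fromSpecStalk] at this
      rcases hgenz _ hm with h | h
      · exact absurd (IsLocalRing.isField_iff_maximalIdeal_eq.2
          (congrArg PrimeSpectrum.asIdeal ((C.fromSpecStalk x).isEmbedding.injective
            (h.trans Scheme.fromSpecStalk_closedPoint.symm))).symm) hnf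
      · exact h
    have hfac := Scheme.descResidueField_stalkClosedPointTo_fromSpecResidueField F C (s ≫ β)
    generalize hd : Spec.map (Scheme.descResidueField (Scheme.stalkClosedPointTo (s ≫ β))) = d at hfac
    clear hd
    revert d
    generalize (s ≫ β) (IsLocalRing.closedPoint F) = η' at hη ⊢
    subst hη
    intro d hfac
    let e : pullback (pullback.snd π β) s ≅ pullback π (d ≫ C.fromSpecResidueField (genericPoint C)) :=
      pullbackLeftPullbackSndIso π β s ≪≫ pullback.congrHom rfl hfac.symm
    have h1 : IsPullback (pullback.snd π (d ≫ C.fromSpecResidueField (genericPoint C))) (pullback.fst π _)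
        (d ≫ C.fromSpecResidueField (genericPoint C)) π := (IsPullback.of_hasPullback _ _).flip
    haveI : Smooth (pullback.snd π (d ≫ C.fromSpecResidueField (genericPoint C))) := by
      let e' := pullbackLeftPullbackSndIso π (C.fromSpecResidueField (genericPoint C)) d
      have h2 : e'.inv ≫ pullback.snd _ _ = pullback.snd π (d ≫ C.fromSpecResidueField (genericPoint C)) :=
        pullbackLeftPullbackSndIso_inv_snd_snd ..
      rw [← h2]
      haveI : Smooth (pullback.snd π (C.fromSpecResidueField (genericPoint C))) := hgen
      infer_instance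
    have h3 : e.hom ≫ pullback.snd _ _ = pullback.snd (pullback.snd π β) s := by simp [e]
    rw [← h3]
    infer_instance

end Groth.Agent.SmoothingPS
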